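import Cfsg.Agent.Lib.BSW.Two
import Cfsg.Agent.Lib.Involution.Basic
import Mathlib.GroupTheory.Sylow

/-!
# A counting route to the hypotheses of Brauer, Suzuki and Wall

`Data G N₀ m x` : `|G| = N₀ * 2m` with an element `x` of even order `m`, the primes of `m` being joined to no
other prime, `N₀` coprime to `m`, large, and congruent to `m + 1` modulo `2m`.
Then all involutions are conjugate, the centralizer of an involution is dihedral of order `2m`, and the
hypotheses of Brauer, Suzuki and Wall hold. The proof only counts involutions.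
-/

set_option autoImplicit false
set_option linter.unusedSectionVars false
set_option linter.style.haveILetI false

namespace Cfsg.Agent.OrderSpec

open Subgroup
open Cfsg.Agent.BSW (cent mem_cent)

variable {G : Type*} [Group G]

/-- The hypotheses. -/
structure Data (G : Type*) [Group G] (N₀ m : ℕ) (x : G) : Prop where
  card : Nat.card G = N₀ * (2 * m)
  cop : Nat.Coprime N₀ m
  even : Even m
  hx : orderOf x = m
  spec : ∀ (g : G) (r l : ℕ), r.Prime → l.Prime → r ≠ l → orderOf g = r * l → r ∣ m → l ∣ m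
  cong : N₀ % (2 * m) = m + 1
  bound : ∀ a u : ℕ, m = 2 ^ a * u → Odd u → m * m + m * u < N₀

/-- A finite group of conjugations acting freely on a set. -/
theorem card_dvd_of_free_conj [Finite G] (A : Subgroup G) (S : Set G)
    (hS : ∀ a ∈ A, ∀ v ∈ S, a * v * a⁻¹ ∈ S)
    (hfree : ∀ a ∈ A, ∀ v ∈ S, a * v = v * a → a = 1) : Nat.card A ∣ S.ncard := by
  classical
  letI : MulAction A S :=
    { smul := fun a v => ⟨(a : G) * v * (a : G)⁻¹, hS a a.2 v v.2⟩
      one_smul := fun v => Subtype.ext (show (1 : G) * (v : G) * (1 : G)⁻¹ = v by simp)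
      mul_smul := fun a b v => Subtype.ext
        (show ((a : G) * b) * v * ((a : G) * b)⁻¹ = a * ((b : G) * v * (b : G)⁻¹) * (a : G)⁻¹ by group) }
  have hstab : ∀ v : S, MulAction.stabilizer A v = ⊥ := by
    intro v
    rw [eq_bot_iff_forall]
    intro a ha
    have h1 : (a : G) * v * (a : G)⁻¹ = v := congrArg Subtype.val (MulAction.mem_stabilizer_iff.1 ha)
    exact Subtype.ext (hfree a a.2 v v.2 (mul_inv_eq_iff_eq_mul.1 h1))
  rw [← Nat.card_coe_set_eq, Nat.card_congr (MulAction.selfEquivSigmaOrbitsQuotientStabilizer A S)]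
  haveI := Fintype.ofFinite (MulAction.orbitRel.Quotient A S)
  rw [Nat.card_sigma]
  refine Finset.dvd_sum fun ω _ => dvd_of_eq ?_
  rw [hstab, ← Subgroup.index_eq_card, Subgroup.index_bot]

/-- The conjugacy class of an element, as a range. -/
theorem ncard_class [Finite G] (v : G) :
    (Set.range fun g : G => g * v * g⁻¹).ncard = (cent v).index := by
  rw [← Nat.card_coe_set_eq, Subgroup.index_eq_card]
  symm
  refine Nat.card_eq_of_bijective
    (fun q : G ⧸ cent v => (⟨q.out * v * q.out⁻¹, q.out, rfl⟩ : Set.range fun g : G => g * v * g⁻¹)) ⟨?_, ?_⟩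
  · intro p q h
    have h' : p.out * v * p.out⁻¹ = q.out * v * q.out⁻¹ := congrArg Subtype.val h
    rw [← Quotient.out_eq' p, ← Quotient.out_eq' q, QuotientGroup.eq, mem_cent]
    calc p.out⁻¹ * q.out * v = p.out⁻¹ * (q.out * v * q.out⁻¹) * q.out := by group
      _ = p.out⁻¹ * (p.out * v * p.out⁻¹) * q.out := by rw [h']
      _ = v * (p.out⁻¹ * q.out) := by group
  · rintro ⟨-, g, rfl⟩
    refine ⟨(g : G ⧸ cent v), Subtype.ext ?_⟩
    have h : (g : G ⧸ cent v).out⁻¹ * g ∈ cent v := by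
      rw [← QuotientGroup.eq]; exact QuotientGroup.out_eq' _
    rw [mem_cent] at h
    show _ = g * v * g⁻¹
    set o := (g : G ⧸ cent v).out
    calc o * v * o⁻¹ = o * (v * (o⁻¹ * g)) * g⁻¹ := by group
      _ = o * ((o⁻¹ * g) * v) * g⁻¹ := by rw [h]
      _ = g * v * g⁻¹ := by group

/-- The involutions in a subgroup. -/
def invs (H : Subgroup G) : Set G := {v | v ∈ H ∧ orderOf v = 2}

namespace Data

variable [Finite G] {N₀ m : ℕ} {x : G} (d : Data G N₀ m x)

/-- The involution in the cyclic subgroup. -/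
def tt (_d : Data G N₀ m x) : G := x ^ (m / 2)

local notation "K" => Subgroup.zpowers x

include d

theorem two_le : 2 ≤ m := by
  have := orderOf_pos x
  rw [d.hx] at this
  obtain ⟨k, hk⟩ := d.even
  omega

theorem card_K : Nat.card K = m := by rw [Nat.card_zpowers, d.hx]

theorem order_t : orderOf d.tt = 2 := by
  have h2 := d.two_le
  obtain ⟨k, hk⟩ := d.even
  refine orderOf_eq_prime ?_ ?_
  · rw [tt, ← pow_mul, show m / 2 * 2 = orderOf x by rw [d.hx]; omega, pow_orderOf_eq_one]
  · exact pow_ne_one_of_lt_orderOf (by omega) (by rw [d.hx]; omega)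

theorem t_mem : d.tt ∈ K := pow_mem (mem_zpowers x) _

theorem eq_t {z : G} (hz : z ∈ K) (ho : orderOf z = 2) : z = d.tt := by
  obtain ⟨k, rfl⟩ := mem_powers_iff_mem_zpowers.2 hz
  have h2 := d.two_le
  show x ^ k = x ^ (m / 2)
  simp only at ho
  rw [← pow_mod_orderOf x k, d.hx] at ho ⊢
  have hlt : k % m < m := Nat.mod_lt _ (by omega)
  have hne : k % m ≠ 0 := by
    intro h0
    rw [h0, pow_zero, orderOf_one] at ho
    omega
  have hd : orderOf x ∣ k % m * 2 := by
    apply orderOf_dvd_of_pow_eq_one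
    rw [pow_mul, ← ho, pow_orderOf_eq_one]
  rw [d.hx] at hd
  obtain ⟨c, hc⟩ := hd
  have h1 : c < 2 := Nat.lt_of_mul_lt_mul_left (a := m) (by omega)
  have h3 : c ≠ 0 := by rintro rfl; omega
  obtain rfl : c = 1 := by omega
  congr 1
  omega

theorem K_le_cent {y : G} (hy : y ∈ K) : K ≤ cent y := by
  obtain ⟨i, rfl⟩ := hy
  intro z hz
  obtain ⟨j, rfl⟩ := hz
  exact mem_cent.2 ((Commute.refl x).zpow_zpow j i)

/-- Only the primes of `m` occur in the centralizer of an element whose order involves one of them. -/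
theorem card_cent_dvd {y : G} {r : ℕ} (hr : r.Prime) (hry : r ∣ orderOf y) (hrm : r ∣ m) :
    Nat.card (cent y) ∣ 2 * m := by
  have hcop : Nat.Coprime (Nat.card (cent y)) N₀ := by
    refine Nat.coprime_of_dvd fun l hl h1 h2 => ?_
    haveI := Fact.mk hl
    have hlm : ¬ l ∣ m := fun h => Nat.not_coprime_of_dvd_of_dvd hl.one_lt h2 h d.cop
    obtain ⟨c, hc⟩ := exists_prime_orderOf_dvd_card' l h1
    rw [← Subgroup.orderOf_coe] at hc
    have hcy : Commute (c : G) (y ^ (orderOf y / r)) := (Commute.pow_right (mem_cent.1 c.2) _)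
    have hy' : orderOf (y ^ (orderOf y / r)) = r := orderOf_pow_orderOf_div (orderOf_pos y).ne' hry
    have hne : r ≠ l := fun h => hlm (h ▸ hrm)
    have ho : orderOf ((c : G) * y ^ (orderOf y / r)) = r * l := by
      rw [hcy.orderOf_mul_eq_mul_orderOf_of_coprime, hc, hy', mul_comm]
      rw [hc, hy']
      exact (Nat.coprime_primes hl hr).2 (Ne.symm hne)
    exact hlm (d.spec _ r l hr hl hne ho hrm)
  refine hcop.dvd_of_dvd_mul_left ?_
  rw [← d.card]
  exact Subgroup.card_subgroup_dvd_card _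

theorem card_cent_invol {v : G} (hv : orderOf v = 2) : Nat.card (cent v) ∣ 2 * m :=
  d.card_cent_dvd Nat.prime_two (dvd_of_eq hv.symm) (even_iff_two_dvd.1 d.even)

theorem in_coset {H : Subgroup G} (hKH : K ≤ H) (hH : Nat.card H ∣ 2 * m) {v w : G}
    (hv : v ∈ H) (hv' : v ∉ K) (hw : w ∈ H) (hw' : w ∉ K) : v * w ∈ K := by
  have h1 := Subgroup.card_mul_index ((K).subgroupOf H)
  rw [Nat.card_congr (Subgroup.subgroupOfEquivOfLe hKH).toEquiv, d.card_K] at h1
  have h2 : ((K).subgroupOf H).index ∣ 2 := by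
    rw [← h1, mul_comm 2 m] at hH
    exact Nat.dvd_of_mul_dvd_mul_left (by have := d.two_le; omega) hH
  rcases (Nat.dvd_prime Nat.prime_two).1 h2 with h | h
  · exfalso
    have hv1 : (⟨v, hv⟩ : H) ∈ (K).subgroupOf H := by rw [Subgroup.index_eq_one.1 h]; exact mem_top _
    exact hv' (mem_subgroupOf.1 hv1)
  · have := (Subgroup.mul_mem_iff_of_index_two h (a := ⟨v, hv⟩) (b := ⟨w, hw⟩)).2
    simp only [mem_subgroupOf, Subgroup.coe_mul] at this
    exact this (iff_of_false hv' hw')

theorem conj_x_mem {H : Subgroup G} (hKH : K ≤ H) (hH : Nat.card H ∣ 2 * m) {v : G} (hv : v ∈ H) :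
    v * x * v⁻¹ ∈ K := by
  by_cases h : v ∈ K
  · exact mul_mem (mul_mem h (mem_zpowers x)) (inv_mem h)
  · refine d.in_coset hKH hH (mul_mem hv (hKH (mem_zpowers x))) ?_ (inv_mem hv) (fun h' => h ?_)
    · exact fun h' => h ((Subgroup.mul_mem_cancel_right _ (mem_zpowers x)).1 h')
    · simpa using inv_mem h'

theorem cent_le_cent_t {y : G} (hy : y ∈ K) (hy1 : y ≠ 1) : cent y ≤ cent d.tt := by
  obtain ⟨r, hr, hry⟩ := Nat.exists_prime_and_dvd (mt orderOf_eq_one_iff.1 hy1)
  have hrm : r ∣ m := hry.trans (by rw [← d.card_K]; exact Subgroup.orderOf_dvd_natCard _ hy)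
  intro v hv
  have h1 := d.conj_x_mem (d.K_le_cent hy) (d.card_cent_dvd hr hry hrm) hv
  have h2 : v * d.tt * v⁻¹ = d.tt := by
    refine d.eq_t ?_ (by rw [Involution.orderOf_conj, d.order_t])
    rw [show v * d.tt * v⁻¹ = (v * x * v⁻¹) ^ (m / 2) from (conj_pow).symm]
    exact pow_mem h1 _
  exact mem_cent.2 (mul_inv_eq_iff_eq_mul.1 h2)

/-- The outer involutions of the centralizer of `t`. -/
def out (d : Data G N₀ m x) : Set G := {v | v ∈ cent d.tt ∧ v ∉ K ∧ orderOf v = 2}

theorem invs_cent_t : invs (cent d.tt) = insert d.tt d.out := by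
  ext v
  constructor
  · rintro ⟨hv, ho⟩
    by_cases hK : v ∈ K
    · exact Or.inl (d.eq_t hK ho)
    · exact Or.inr ⟨hv, hK, ho⟩
  · rintro (rfl | ⟨hv, -, ho⟩)
    · exact ⟨mem_cent.2 rfl, d.order_t⟩
    · exact ⟨hv, ho⟩

theorem out_subset : d.out ⊆ (cent d.tt : Set G) \ (K : Set G) := fun _v hv => ⟨hv.1, hv.2.1⟩

theorem ncard_diff_le : ((cent d.tt : Set G) \ (K : Set G)).ncard ≤ m := by
  have hle : (K : Set G) ⊆ (cent d.tt : Set G) := d.K_le_cent d.t_mem
  rw [Set.ncard_sdiff hle]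
  have h1 : (cent d.tt : Set G).ncard ≤ 2 * m := by
    rw [← Nat.card_coe_set_eq]
    exact Nat.le_of_dvd (by have := d.two_le; omega) (d.card_cent_invol d.order_t)
  have h2 : (K : Set G).ncard = m := by
    rw [← Nat.card_coe_set_eq]; exact d.card_K
  omega

theorem ncard_out_le : d.out.ncard ≤ m :=
  (Set.ncard_le_ncard d.out_subset (Set.toFinite _)).trans d.ncard_diff_le

theorem odd_N₀ : Odd N₀ := by
  rw [Nat.odd_iff]
  have h := d.cop
  by_contra h0
  exact Nat.not_coprime_of_dvd_of_dvd (by norm_num : 1 < 2) (show 2 ∣ N₀ by omega)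
    (even_iff_two_dvd.1 d.even) h

theorem exists_sylow {a u : ℕ} (hm : m = 2 ^ a * u) (hu : Odd u) :
    ∃ T : Sylow 2 G, Nat.card T = 2 ^ (a + 1) ∧ zpowers (x ^ u) ≤ (T : Subgroup G) ∧
      Nat.card (zpowers (x ^ u)) = 2 ^ a := by
  haveI := Fact.mk Nat.prime_two
  have hu0 : u ≠ 0 := by rintro rfl; simp at hu
  have hcard : Nat.card (zpowers (x ^ u)) = 2 ^ a := by
    rw [Nat.card_zpowers, orderOf_pow' _ hu0, d.hx, hm, Nat.gcd_eq_right (dvd_mul_left u _),
      Nat.mul_div_cancel _ (Nat.pos_of_ne_zero hu0)]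
  obtain ⟨T, hT⟩ := (IsPGroup.of_card hcard).exists_le_sylow
  refine ⟨T, ?_, hT, hcard⟩
  obtain ⟨k, hk⟩ := IsPGroup.iff_card.1 T.2
  have hG : Nat.card G = 2 ^ (a + 1) * (N₀ * u) := by rw [d.card, hm, pow_succ]; ring
  have hodd : Nat.Coprime 2 (N₀ * u) := Nat.coprime_two_left.2 (d.odd_N₀.mul hu)
  refine Nat.dvd_antisymm ?_ (T.pow_dvd_card_of_pow_dvd_card ⟨_, hG⟩)
  rw [hk]
  refine (Nat.Coprime.pow_left k hodd).dvd_of_dvd_mul_right ?_
  rw [← hk, ← hG]
  exact Subgroup.card_subgroup_dvd_card _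

theorem ncard_invs_two_group {a u : ℕ} (hm : m = 2 ^ a * u) (hu : Odd u) {S : Subgroup G}
    (hS : IsPGroup 2 S) : (invs S).ncard ≤ 2 ^ a + 1 := by
  haveI := Fact.mk Nat.prime_two
  obtain ⟨T, hT, hle, hc⟩ := d.exists_sylow hm hu
  obtain ⟨P, hP⟩ := hS.exists_le_sylow
  obtain ⟨g, hg⟩ := MulAction.exists_smul_eq G P T
  have hmap : ∀ v ∈ invs S, g * v * g⁻¹ ∈ invs (T : Subgroup G) := by
    intro v hv
    refine ⟨?_, by rw [Involution.orderOf_conj]; exact hv.2⟩
    rw [← hg, Sylow.coe_subgroup_smul, Subgroup.mem_pointwise_smul_iff_inv_smul_mem, ← map_inv,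
      MulAut.smul_def, MulAut.conj_apply]
    simpa [mul_assoc] using hP hv.1
  have h1 : (invs S).ncard ≤ (invs (T : Subgroup G)).ncard :=
    Set.ncard_le_ncard_of_injOn _ hmap (fun v _ w _ h => mul_left_cancel (mul_right_cancel h))
      (Set.toFinite _)
  have h2 : invs (T : Subgroup G) ⊆ insert d.tt (((T : Subgroup G) : Set G) \ (zpowers (x ^ u) : Set G)) := by
    rintro v ⟨hvT, hvo⟩
    by_cases hv : v ∈ zpowers (x ^ u)
    · exact Or.inl (d.eq_t ((zpowers_le.2 (pow_mem (mem_zpowers x) u)) hv) hvo)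
    · exact Or.inr ⟨hvT, hv⟩
  have h3 := Set.ncard_le_ncard h2 (Set.toFinite _)
  have h4 := Set.ncard_insert_le d.tt (((T : Subgroup G) : Set G) \ (zpowers (x ^ u) : Set G))
  rw [Set.ncard_sdiff (show (zpowers (x ^ u) : Set G) ⊆ ((T : Subgroup G) : Set G) from hle)] at h4
  have h5 : ((T : Subgroup G) : Set G).ncard = 2 ^ (a + 1) := by rw [← Nat.card_coe_set_eq]; exact hT
  have h6 : (zpowers (x ^ u) : Set G).ncard = 2 ^ a := by rw [← Nat.card_coe_set_eq]; exact hc
  rw [h5, h6, pow_succ] at h4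
  omega

theorem ncard_invs {a u : ℕ} (hm : m = 2 ^ a * u) (hu : Odd u) {H : Subgroup G}
    (hH : Nat.card H ∣ 2 * m) : (invs H).ncard ≤ m + u := by
  classical
  haveI := Fact.mk Nat.prime_two
  haveI := Fintype.ofFinite (Sylow 2 H)
  have hn : Nat.card (Sylow 2 H) ≤ u := by
    refine Nat.le_of_dvd hu.pos ?_
    have hodd : Nat.Coprime 2 (Nat.card (Sylow 2 H)) := Nat.coprime_two_left.2
      (Nat.odd_iff.2 (card_sylow_modEq_one 2 H))
    refine (Nat.Coprime.pow_left (a + 1) hodd).symm.dvd_of_dvd_mul_left ?_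
    refine ((default : Sylow 2 H).card_dvd_index.trans ((default : Sylow 2 H) : Subgroup H).index_dvd_card).trans ?_
    rw [pow_succ, mul_comm (2 ^ a) 2, mul_assoc, ← hm]
    exact hH
  have hsub : invs H ⊆ ⋃ P ∈ (Finset.univ : Finset (Sylow 2 H)),
      invs ((P : Subgroup H).map H.subtype) := by
    rintro v ⟨hvH, hvo⟩
    have hp : IsPGroup 2 (zpowers (⟨v, hvH⟩ : H)) := IsPGroup.of_card (n := 1)
      (by rw [Nat.card_zpowers, ← Subgroup.orderOf_coe, pow_one]; exact hvo)
    obtain ⟨P, hP⟩ := hp.exists_le_sylow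
    exact Set.mem_biUnion (Finset.mem_univ P) ⟨⟨_, hP (mem_zpowers _), rfl⟩, hvo⟩
  refine (Set.ncard_le_ncard hsub (Set.toFinite _)).trans ?_
  refine (Finset.set_ncard_biUnion_le _ _).trans ?_
  refine (Finset.sum_le_card_nsmul _ _ (2 ^ a + 1) fun P _ =>
    d.ncard_invs_two_group hm hu (P.2.map _)).trans ?_
  rw [smul_eq_mul, Finset.card_univ, ← Nat.card_eq_fintype_card]
  calc Nat.card (Sylow 2 H) * (2 ^ a + 1) ≤ u * (2 ^ a + 1) := Nat.mul_le_mul_right _ hn
    _ = m + u := by rw [hm]; ring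

/-- All involutions are conjugate. -/
theorem isConj_t {v : G} (hv : orderOf v = 2) : IsConj d.tt v := by
  classical
  by_contra hnc
  obtain ⟨a, u, hu, hm⟩ := Nat.exists_eq_two_pow_mul_odd (show m ≠ 0 by have := d.two_le; omega)
  have hbound := d.bound a u hm hu
  have hclass : N₀ ≤ (Set.range fun g : G => g * v * g⁻¹).ncard := by
    rw [ncard_class]
    have h1 := (cent v).index_mul_card
    rw [d.card] at h1
    have h2 : Nat.card (cent v) ≤ 2 * m :=
      Nat.le_of_dvd (by have := d.two_le; omega) (d.card_cent_invol hv)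
    refine le_of_mul_le_mul_right (a := 2 * m) ?_ (by have := d.two_le; omega)
    rw [← h1]
    exact Nat.mul_le_mul_left _ h2
  have hsub : (Set.range fun g : G => g * v * g⁻¹) ⊆
      d.out ∪ ⋃ w ∈ d.out.toFinite.toFinset, invs (cent w) \ {w} := by
    rintro v' ⟨g, hv'⟩
    replace hv' : v' = g * v * g⁻¹ := hv'.symm
    have ho : orderOf v' = 2 := by rw [hv', Involution.orderOf_conj, hv]
    have hn : ¬ IsConj d.tt v' := fun h => hnc (h.trans (isConj_iff.2 ⟨g, hv'.symm⟩).symm)
    by_cases hc : v' ∈ cent d.tt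
    · exact Or.inl ⟨hc, fun hK => hn (by rw [d.eq_t hK ho]), ho⟩
    · right
      obtain ⟨w, hwo, hwt, hwv, -⟩ :=
        Involution.exists_commuting_involution d.order_t ho (Involution.even_of_not_isConj d.order_t ho hn)
      have hwK : w ∉ K := fun hK => hc (by
        rw [mem_cent, ← d.eq_t hK hwo]; exact hwv.eq.symm)
      refine Set.mem_biUnion (d.out.toFinite.mem_toFinset.2 ⟨mem_cent.2 hwt.eq, hwK, hwo⟩)
        ⟨⟨mem_cent.2 hwv.eq.symm, ho⟩, fun he => hc ?_⟩
      rw [Set.mem_singleton_iff] at he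
      rw [mem_cent, he]
      exact hwt.eq
  have hcard : ∀ w ∈ d.out.toFinite.toFinset, (invs (cent w) \ {w}).ncard ≤ m + u - 1 := by
    intro w hw
    have hwo := (d.out.toFinite.mem_toFinset.1 hw).2.2
    rw [Set.ncard_sdiff_singleton_of_mem (show w ∈ invs (cent w) from ⟨mem_cent.2 rfl, hwo⟩)]
    exact Nat.sub_le_sub_right (d.ncard_invs hm hu (d.card_cent_invol hwo)) 1
  have h1 := (Set.ncard_le_ncard hsub (Set.toFinite _)).trans (Set.ncard_union_le _ _)
  have h2 := (Finset.set_ncard_biUnion_le d.out.toFinite.toFinset fun w => invs (cent w) \ {w}).trans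
    (Finset.sum_le_card_nsmul _ _ _ hcard)
  rw [smul_eq_mul, ← Set.ncard_eq_toFinset_card _ d.out.toFinite] at h2
  have h3 := d.ncard_out_le
  have h4 : d.out.ncard * (m + u - 1) ≤ m * (m + u - 1) := Nat.mul_le_mul_right _ h3
  have h5 : m * (m + u - 1) + m = m * m + m * u := by
    have : 1 ≤ m + u := by have := d.two_le; omega
    rw [← Nat.mul_succ, Nat.succ_eq_add_one, Nat.sub_add_cancel this]; ring
  omega

theorem card_cent_t : Nat.card (cent d.tt) = 2 * m := by
  haveI := Fact.mk Nat.prime_two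
  obtain ⟨a, u, hu, hm⟩ := Nat.exists_eq_two_pow_mul_odd (show m ≠ 0 by have := d.two_le; omega)
  obtain ⟨T, hT, -, -⟩ := d.exists_sylow hm hu
  haveI : Nontrivial T := Finite.one_lt_card_iff_nontrivial.1 (by rw [hT]; exact Nat.one_lt_two_pow (by omega))
  haveI := T.2.center_nontrivial
  obtain ⟨k, hk⟩ := IsPGroup.iff_card.1 (T.2.to_subgroup (center T))
  have hk0 : k ≠ 0 := fun h => by
    rw [h, pow_zero] at hk; exact (Finite.one_lt_card (α := center T)).ne' hk
  obtain ⟨z, hz⟩ := exists_prime_orderOf_dvd_card' (G := center T) 2 (by rw [hk]; exact dvd_pow_self 2 hk0)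
  rw [← Subgroup.orderOf_coe, ← Subgroup.orderOf_coe] at hz
  obtain ⟨g, hg⟩ := isConj_iff.1 (d.isConj_t hz)
  have hle : (T : Subgroup G) ≤ cent ((z : T) : G) := fun v hv => mem_cent.2
    (congrArg Subtype.val (Subgroup.mem_center_iff.1 z.2 ⟨v, hv⟩))
  have h1 : 2 ^ (a + 1) ∣ Nat.card (cent d.tt) := by
    rw [← hT, ← BSW.card_cent_conj g d.tt, hg]
    exact Subgroup.card_dvd_of_le hle
  have h2 : u ∣ Nat.card (cent d.tt) := by
    exact ((dvd_mul_left u (2 ^ a)).trans (dvd_of_eq (hm.symm.trans d.card_K.symm))).trans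
      (Subgroup.card_dvd_of_le (d.K_le_cent d.t_mem))
  refine Nat.dvd_antisymm (d.card_cent_invol d.order_t) ?_
  have h3 := Nat.Coprime.mul_dvd_of_dvd_of_dvd
    (Nat.Coprime.pow_left (a + 1) (Nat.coprime_two_left.2 hu)) h1 h2
  rwa [pow_succ, mul_comm (2 ^ a) 2, mul_assoc, ← hm] at h3

/-- Every element outside `K` in the centralizer of `t` is an involution. -/
theorem out_eq : d.out = (cent d.tt : Set G) \ (K : Set G) := by
  have h2m := d.two_le
  have hall : {v : G | orderOf v = 2} = Set.range fun g : G => g * d.tt * g⁻¹ := by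
    ext v
    constructor
    · intro hv
      obtain ⟨g, hg⟩ := isConj_iff.1 (d.isConj_t hv)
      exact ⟨g, hg⟩
    · rintro ⟨g, rfl⟩
      show orderOf _ = 2
      rw [Involution.orderOf_conj, d.order_t]
  have hN : {v : G | orderOf v = 2}.ncard = N₀ := by
    rw [hall, ncard_class]
    have := (cent d.tt).index_mul_card
    rw [d.card, d.card_cent_t] at this
    exact Nat.eq_of_mul_eq_mul_right (by omega) this
  set Ω : Set G := {v : G | orderOf v = 2} \ invs (cent d.tt) with hΩ
  have hΩcard : Ω.ncard + (d.out.ncard + 1) = N₀ := by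
    have h := Set.ncard_sdiff_add_ncard_of_subset
      (show invs (cent d.tt) ⊆ {v : G | orderOf v = 2} from fun v hv => hv.2) (Set.toFinite _)
    rwa [hN, d.invs_cent_t, Set.ncard_insert_of_notMem
      (fun h : d.tt ∈ d.out => h.2.1 d.t_mem) (Set.toFinite _), ← d.invs_cent_t] at h
  have hinvar : ∀ a ∈ cent d.tt, ∀ v ∈ Ω, a * v * a⁻¹ ∈ Ω := by
    rintro a ha v ⟨hvo, hv⟩
    refine ⟨show orderOf _ = 2 by rw [Involution.orderOf_conj]; exact hvo, fun h => hv ⟨?_, hvo⟩⟩
    have := mul_mem (mul_mem (inv_mem ha) h.1) ha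
    simpa [mul_assoc] using this
  have hfreeK : ∀ a ∈ K, ∀ v ∈ Ω, a * v = v * a → a = 1 := by
    rintro a ha v ⟨hvo, hv⟩ hc
    by_contra h1
    exact hv ⟨d.cent_le_cent_t ha h1 (mem_cent.2 hc.symm), hvo⟩
  have hdvd := card_dvd_of_free_conj K Ω
    (fun a ha => hinvar a (d.K_le_cent d.t_mem ha)) hfreeK
  rw [d.card_K] at hdvd
  set k := N₀ / (2 * m) with hk
  have hNk : N₀ = m * (2 * k + 1) + 1 := by
    have := Nat.div_add_mod N₀ (2 * m)
    rw [d.cong, ← hk, mul_comm 2 m, mul_assoc] at this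
    rw [Nat.mul_succ]
    omega
  have hj := d.ncard_out_le
  have hmj : m ∣ d.out.ncard := by
    rw [show Ω.ncard = m * (2 * k + 1) - d.out.ncard by omega] at hdvd
    have := Nat.dvd_sub (dvd_mul_right m (2 * k + 1)) hdvd
    rwa [Nat.sub_sub_self (by omega)] at this
  rcases Nat.eq_zero_or_pos d.out.ncard with h0 | hpos
  · exfalso
    have hfree : ∀ a ∈ cent d.tt, ∀ v ∈ Ω, a * v = v * a → a = 1 := by
      intro a ha v hv hc
      by_contra h1
      obtain ⟨r, hr, hra⟩ := Nat.exists_prime_and_dvd (mt orderOf_eq_one_iff.1 h1)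
      set b := a ^ (orderOf a / r) with hb
      have hbo : orderOf b = r := orderOf_pow_orderOf_div (orderOf_pos a).ne' hra
      have hb1 : b ≠ 1 := fun h => hr.ne_one (by rw [← hbo, h, orderOf_one])
      have hbc : b ∈ cent d.tt := pow_mem ha _
      by_cases hbK : b ∈ K
      · exact hb1 (hfreeK b hbK v hv (Commute.pow_left hc _))
      rcases hr.eq_two_or_odd' with rfl | hodd
      · have : b ∈ d.out := ⟨hbc, hbK, hbo⟩
        rw [Set.ncard_eq_zero] at h0
        rw [h0] at this
        exact this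
      · have hbb := d.in_coset (d.K_le_cent d.t_mem) (dvd_of_eq d.card_cent_t) hbc hbK hbc hbK
        obtain ⟨i, hi⟩ := hodd
        refine hbK ?_
        have : b = (b * b) ^ (i + 1) := by
          rw [← sq, ← pow_mul, show 2 * (i + 1) = orderOf b + 1 by omega, pow_add, pow_orderOf_eq_one,
            one_mul, pow_one]
        rw [this]
        exact pow_mem hbb _
    have h2 := card_dvd_of_free_conj (cent d.tt) Ω hinvar hfree
    rw [d.card_cent_t, show Ω.ncard = m * (2 * k + 1) by omega, mul_comm 2 m] at h2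
    have := Nat.dvd_of_mul_dvd_mul_left (by omega) h2
    omega
  · have := Nat.le_of_dvd hpos hmj
    exact Set.eq_of_subset_of_ncard_le d.out_subset (d.ncard_diff_le.trans this) (Set.toFinite _)

theorem exists_hyp : ∃ s, BSW.Hyp d.tt s K := by
  have h2m := d.two_le
  have hdiff : ((cent d.tt : Set G) \ (K : Set G)).Nonempty := by
    rw [Set.nonempty_iff_ne_empty]
    intro h
    have hle : cent d.tt ≤ K := fun v hv => by
      by_contra hK
      exact (Set.eq_empty_iff_forall_notMem.1 h v) ⟨hv, hK⟩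
    have := Subgroup.card_le_of_le hle
    rw [d.card_cent_t, d.card_K] at this
    omega
  obtain ⟨s, hs⟩ := hdiff
  have hso : ∀ v ∈ cent d.tt, v ∉ K → orderOf v = 2 := fun v hv hK =>
    (show v ∈ d.out by rw [d.out_eq]; exact ⟨hv, hK⟩).2.2
  have hs2 := hso s hs.1 hs.2
  have hinv : ∀ y ∈ K, s * y * s⁻¹ = y⁻¹ := by
    intro y hy
    have hmem : s * y ∉ K := fun h => hs.2 ((Subgroup.mul_mem_cancel_right _ hy).1 h)
    have h := Involution.mul_self (hso _ (mul_mem hs.1 (d.K_le_cent d.t_mem hy)) hmem)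
    rw [Involution.inv_eq hs2]
    calc s * y * s = (s * y * (s * y)) * y⁻¹ := by group
      _ = y⁻¹ := by rw [h, one_mul]
  refine ⟨s, ?_⟩
  exact
  { ht := d.order_t
    hs := hs2
    comm := fun a ha b hb => mem_cent.1 (d.K_le_cent hb ha)
    le_cent := d.K_le_cent d.t_mem
    t_mem := d.t_mem
    s_mem := hs.1
    s_not := hs.2
    cent_le := fun v hv => by
      by_cases hK : v ∈ K
      · exact mem_sup_left hK
      · have h := d.in_coset (d.K_le_cent d.t_mem) (dvd_of_eq d.card_cent_t) hs.1 hs.2 hv hK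
        have e : v = s⁻¹ * (s * v) := by group
        rw [e]
        exact mul_mem (mem_sup_right (inv_mem (mem_zpowers s))) (mem_sup_left h)
    fix := fun y hy hc => by
      by_cases h1 : y = 1
      · exact Or.inl h1
      refine Or.inr (d.eq_t hy (Involution.orderOf_of_sq ?_ h1))
      have := hinv y hy
      rw [hc, mul_inv_cancel_right] at this
      exact mul_eq_one_iff_eq_inv.2 this
    inv := hinv
    ti := fun g y hy hy1 hgy => by
      have hz1 : g * y * g⁻¹ ≠ 1 := fun h => hy1 (by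
        rwa [mul_inv_eq_one, mul_eq_left] at h)
      have hK : ∀ w ∈ K, g * w * g⁻¹ ∈ cent d.tt := fun w hw =>
        d.cent_le_cent_t hgy hz1 (by
          have := BSW.conj_mem_cent (g := g) (d.K_le_cent hy hw)
          exact this)
      suffices h : g * d.tt * g⁻¹ = d.tt from mem_cent.2 (mul_inv_eq_iff_eq_mul.1 h)
      by_cases hxK : g * x * g⁻¹ ∈ K
      · refine d.eq_t ?_ (by rw [Involution.orderOf_conj, d.order_t])
        rw [show g * d.tt * g⁻¹ = (g * x * g⁻¹) ^ (m / 2) from (conj_pow).symm]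
        exact pow_mem hxK _
      · have hm2 : orderOf x = 2 := by
          rw [← Involution.orderOf_conj g x]; exact hso _ (hK x (mem_zpowers x)) hxK
        have hxt : x = d.tt := d.eq_t (mem_zpowers x) hm2
        have hall : ∀ w ∈ K, w ≠ 1 → w = d.tt := by
          intro w hw hw1
          refine d.eq_t hw (Involution.orderOf_of_sq ?_ hw1)
          have hd : orderOf w ∣ 2 := by
            rw [← hm2, d.hx, ← d.card_K]; exact Subgroup.orderOf_dvd_natCard _ hw
          rw [← sq]
          exact orderOf_dvd_iff_pow_eq_one.1 hd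
        have e1 := hall y hy hy1
        have e2 := hall _ hgy hz1
        rwa [e1] at e2
    all_conj := fun v w hv hw => (d.isConj_t hv).symm.trans (d.isConj_t hw) }

theorem conclusion : BSW.Conclusion G := by
  obtain ⟨s, hs⟩ := d.exists_hyp
  exact hs.conclusion

end Data

end Cfsg.Agent.OrderSpec
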