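import Cfsg.Agent.Lib.BSW.Two
import Cfsg.Agent.Lib.BSW.LinePSL
import Cfsg.Agent.Lib.PSL2.Subgroups

/-!
# `PSL(2, q)` from the conclusion of Brauer, Suzuki and Wall and the order
-/

set_option autoImplicit false

namespace Cfsg.Agent.OrderSpec

/-- The order determines the field. -/
theorem card_eq_of_equiv {G : Type*} [Group G] {F : Type} [Field F] [Fintype F]
    (e : G ≃* Matrix.ProjectiveSpecialLinearGroup (Fin 2) F) {q : ℕ} (hq : 5 ≤ q)
    (hcard : 2 * Nat.card G = q * (q + 1) * (q - 1)) (hodd : Odd (Fintype.card F)) :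
    Fintype.card F = q := by
  have h := PSL2.card_psl_mul (F := F)
  rw [← Nat.card_congr e.toEquiv, Nat.card_eq_fintype_card (α := F)] at h
  obtain ⟨k, hk⟩ := hodd
  have hk1 : 1 ≤ k := by have := Fintype.one_lt_card (α := F); omega
  rw [hk, show (2 * k + 1 - 1) = 2 * k by omega, Nat.gcd_mul_right_right] at h
  have mono : StrictMonoOn (fun n : ℕ => n * (n + 1) * (n - 1)) (Set.Ici 1) := by
    intro a (ha : 1 ≤ a) b _ hab
    show a * (a + 1) * (a - 1) < b * (b + 1) * (b - 1)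
    exact Nat.mul_lt_mul'' (Nat.mul_lt_mul'' hab (by omega)) (by omega)
  refine mono.injOn (Set.mem_Ici.2 (by omega)) (Set.mem_Ici.2 (by omega)) ?_
  show _ * _ * _ = _
  rw [← hcard, h, hk, show (2 * k + 1 - 1) = 2 * k by omega, mul_assoc]

open Subgroup Cfsg.Agent.BSW in
/-- A simple group with the structure given by the theorem of Brauer, Suzuki and Wall is `PSL(2, F)`. -/
theorem equiv_of_conclusion {G : Type*} [Group G] [Finite G] (h : Conclusion G) {q : ℕ} (hq : 5 ≤ q)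
    (hcard : 2 * Nat.card G = q * (q + 1) * (q - 1)) :
    ∃ (F : Type) (_ : Field F) (_ : Fintype F), Fintype.card F = q ∧
      Nonempty (G ≃* Matrix.ProjectiveSpecialLinearGroup (Fin 2) F) := by
  obtain ⟨Q, D, hG, hC, hDc, hQD, hdisj, hN, hX⟩ := h
  set N : Subgroup G := normalizer (Q : Set G) with hNdef
  have hGpos : 0 < Nat.card G := Nat.card_pos
  have hDpos : 0 < Nat.card D := Nat.card_pos
  have hQN : Q ≤ N := le_normalizer
  have hDN : D ≤ N := le_sup_right.trans hN.ge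
  have hQcomm : ∀ x ∈ Q, ∀ y ∈ Q, x * y = y * x := by
    intro x hx y hy
    rcases eq_or_ne x 1 with rfl | hx1
    · rw [one_mul, mul_one]
    · rw [← hC x hx hx1, mem_centralizer_singleton_iff] at hy
      exact hy.symm
  have hdj : ∀ x, x ∈ Q → x ∈ D → x = 1 := fun x h1 h2 => mem_bot.mp (hdisj ▸ ⟨h1, h2⟩)
  have hconjQ : ∀ g ∈ N, ∀ x ∈ Q, g * x * g⁻¹ ∈ Q := fun g hg x hx =>
    conj_mem_of_mem_normalizer hg hx
  have hNmem : ∀ g ∈ N, ∃ x ∈ Q, ∃ d ∈ D, g = x * d := by
    intro g hg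
    have hg' : g ∈ ((Q ⊔ D : Subgroup G) : Set G) := hN ▸ hg
    rw [coe_mul_of_right_le_normalizer_left Q D hDN] at hg'
    obtain ⟨x, hx, d, hd, e⟩ := hg'
    exact ⟨x, hx, d, hd, e.symm⟩
  have hpow : ∀ x ∈ Q, ∀ d ∈ D, ∀ k : ℕ, ∃ x' ∈ Q, (x * d) ^ k = x' * d ^ k := by
    intro x hx d hd k
    induction k with
    | zero => exact ⟨1, one_mem _, by simp⟩
    | succ k ih =>
      obtain ⟨x', hx', e⟩ := ih
      refine ⟨x' * (d ^ k * x * (d ^ k)⁻¹),
        mul_mem hx' (hconjQ _ (pow_mem (hDN hd) k) x hx), ?_⟩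
      rw [pow_succ, pow_succ, e]
      group
  have hcardN : Nat.card N = Nat.card Q * Nat.card D := by
    rw [← Nat.card_prod]
    symm
    refine Nat.card_eq_of_bijective
      (fun p : Q × D => (⟨p.1 * p.2, mul_mem (hQN p.1.2) (hDN p.2.2)⟩ : N)) ⟨?_, ?_⟩
    · rintro ⟨x, d⟩ ⟨x', d'⟩ e
      have e' : (x : G) * d = x' * d' := congrArg Subtype.val e
      have h1 : (x' : G)⁻¹ * x = d' * (d : G)⁻¹ := by
        rw [eq_mul_inv_iff_mul_eq, mul_assoc, e', inv_mul_cancel_left]
      have h2 := hdj _ (mul_mem (inv_mem x'.2) x.2) (h1 ▸ mul_mem d'.2 (inv_mem d.2))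
      have hx : x = x' := Subtype.ext (inv_mul_eq_one.mp h2).symm
      subst hx
      rw [Subtype.ext (mul_left_cancel e') (a1 := d) (a2 := d')]
    · rintro ⟨g, hg⟩
      obtain ⟨x, hx, d, hd, rfl⟩ := hNmem g hg
      exact ⟨(⟨x, hx⟩, ⟨d, hd⟩), rfl⟩
  have hindex : N.index = Nat.card Q + 1 := by
    have h1 : 2 * Nat.card G = Nat.card Q * (Nat.card Q + 1) * (2 * Nat.card D) := by
      rw [hG]; congr 1; omega
    rw [← N.index_mul_card, hcardN] at h1
    have hpos : 0 < 2 * (Nat.card Q * Nat.card D) := Nat.mul_pos two_pos (Nat.mul_pos Nat.card_pos Nat.card_pos)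
    apply Nat.eq_of_mul_eq_mul_right hpos
    calc N.index * (2 * (Nat.card Q * Nat.card D))
        = 2 * (N.index * (Nat.card Q * Nat.card D)) := by ring
      _ = _ := h1
      _ = _ := by ring
  have hQq : Nat.card Q = q := by
    have mono : StrictMonoOn (fun n : ℕ => n * (n + 1) * (n - 1)) (Set.Ici 1) := by
      intro a (ha : 1 ≤ a) b _ hab
      show a * (a + 1) * (a - 1) < b * (b + 1) * (b - 1)
      exact Nat.mul_lt_mul'' (Nat.mul_lt_mul'' hab (by omega)) (by omega)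
    exact mono.injOn (Set.mem_Ici.2 (Nat.card_pos (α := Q))) (Set.mem_Ici.2 (by omega))
      (hG.symm.trans hcard)
  have htwo : 2 ≤ Nat.card D := by omega
  have hDne : D ≠ ⊥ := fun e => by rw [e, card_bot] at htwo; omega
  obtain ⟨-, u, hu, huD, huinv, hND⟩ := hX D le_rfl hDne
  have hu2 : u * u = 1 := by rw [← sq, ← hu, pow_orderOf_eq_one]
  have hui : u⁻¹ = u := inv_eq_of_mul_eq_one_right hu2
  have huN : u ∉ N := by
    intro hmem
    obtain ⟨x, hx, d, hd, e⟩ := hNmem u hmem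
    rcases eq_or_ne x 1 with rfl | hx1
    · rw [one_mul] at e
      exact huD (e ▸ hd)
    · apply hDne
      rw [eq_bot_iff_forall]
      intro d' hd'
      have h1 : x * d' * x⁻¹ ∈ D := by
        have e1 : x * d' * x⁻¹ = u * (d⁻¹ * d' * d) * u⁻¹ := by rw [e]; group
        rw [e1, huinv _ (mul_mem (mul_mem (inv_mem hd) hd') hd)]
        exact inv_mem (mul_mem (mul_mem (inv_mem hd) hd') hd)
      have h2 : x * (d' * x⁻¹ * d'⁻¹) = 1 := hdj _
        (mul_mem hx (hconjQ _ (hDN hd') _ (inv_mem hx)))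
        (by rw [show x * (d' * x⁻¹ * d'⁻¹) = x * d' * x⁻¹ * d'⁻¹ by group]
            exact mul_mem h1 (inv_mem hd'))
      refine hdj d' ?_ hd'
      rw [← hC x hx hx1, mem_centralizer_singleton_iff]
      calc d' * x = (x * (d' * x⁻¹ * d'⁻¹)) * d' * x := by rw [h2, one_mul]
        _ = x * d' := by group
  let p₀ : G ⧸ N := ((1 : G) : G ⧸ N)
  let o : G ⧸ N := (u : G ⧸ N)
  have hfix : ∀ g a : G, g • (a : G ⧸ N) = (a : G ⧸ N) ↔ a⁻¹ * g * a ∈ N := by
    intro g a
    rw [MulAction.Quotient.smul_coe, smul_eq_mul, eq_comm, QuotientGroup.eq, mul_assoc]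
  have hkey : ∀ x ∈ Q, ∀ z : G ⧸ N, z ≠ p₀ → x • z = z → x = 1 := by
    intro x hx z hz hxz
    obtain ⟨g, rfl⟩ := QuotientGroup.mk_surjective z
    have hy := (hfix x g).mp hxz
    obtain ⟨x', hx', d, hd, e⟩ := hNmem _ hy
    have hq1 : (g⁻¹ * x * g) ^ Nat.card Q = 1 := by
      have h1 : x ^ Nat.card Q = 1 := orderOf_dvd_iff_pow_eq_one.mp (orderOf_dvd_natCard Q hx)
      have h2 : (g⁻¹ * x * g⁻¹⁻¹) ^ Nat.card Q = g⁻¹ * x ^ Nat.card Q * g⁻¹⁻¹ := conj_pow
      rw [inv_inv] at h2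
      rw [h2, h1, mul_one, inv_mul_cancel]
    obtain ⟨x'', hx'', e'⟩ := hpow x' hx' d hd (Nat.card Q)
    rw [← e, hq1] at e'
    have hdq : d ^ Nat.card Q = 1 := hdj _
      (by rw [eq_inv_of_mul_eq_one_right e'.symm]; exact inv_mem hx'') (pow_mem hd _)
    have hd1 : d = 1 := by
      refine orderOf_eq_one_iff.mp (Nat.eq_one_of_dvd_coprimes ?_
        (orderOf_dvd_of_pow_eq_one hdq) (orderOf_dvd_natCard D hd))
      rw [← hQD, mul_comm, Nat.coprime_mul_left_add_left]
      exact Nat.coprime_one_left _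
    rw [hd1, mul_one] at e
    by_contra hx1
    have hx'1 : x' ≠ 1 := fun h1 => hx1 (by
      calc x = g * (g⁻¹ * x * g) * g⁻¹ := by group
        _ = 1 := by rw [e, h1, mul_one, mul_inv_cancel])
    have hgN : g ∈ N := by
      refine mem_normalizer_of_conj fun w hw => ?_
      rw [← hC x hx hx1, mem_centralizer_singleton_iff]
      rw [← hC x' hx' hx'1, mem_centralizer_singleton_iff, ← e] at hw
      calc g * w * g⁻¹ * x = g * (w * (g⁻¹ * x * g)) * g⁻¹ := by group
        _ = g * ((g⁻¹ * x * g) * w) * g⁻¹ := by rw [hw]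
        _ = x * (g * w * g⁻¹) := by group
    exact hz (QuotientGroup.eq.mpr (by simpa using hgN))
  have hne : o ≠ p₀ := fun e => huN (by simpa using QuotientGroup.eq.mp e)
  have hQfix : ∀ x ∈ Q, x • p₀ = p₀ := fun x hx => (hfix x 1).mpr (by simpa using hQN hx)
  have hreg : ∀ z, z ≠ p₀ → ∃! x : Q, (x : G) • o = z := by
    let f : Q → {z : G ⧸ N // z ≠ p₀} := fun x => ⟨(x : G) • o, fun e =>
      hne (smul_left_cancel (x : G) (e.trans (hQfix x x.2).symm))⟩
    have hf : Function.Bijective f := by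
      rw [Nat.bijective_iff_injective_and_card]
      refine ⟨fun x y e => ?_, ?_⟩
      · have e' : (x : G) • o = (y : G) • o := congrArg Subtype.val e
        have h1 : ((y : G)⁻¹ * x) • o = o := by rw [mul_smul, e', inv_smul_smul]
        exact Subtype.ext (inv_mul_eq_one.mp (hkey _ (mul_mem (inv_mem y.2) x.2) o hne h1)).symm
      · classical
        have h1 := Nat.card_congr (Equiv.optionSubtypeNe p₀)
        rw [Finite.card_option, ← Subgroup.index_eq_card, hindex] at h1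
        omega
    intro z hz
    obtain ⟨x, hx⟩ := hf.2 ⟨z, hz⟩
    exact ⟨x, congrArg Subtype.val hx, fun y hy =>
      hf.1 (Subtype.ext (hy.trans (congrArg Subtype.val hx).symm))⟩
  have huo : u • o = p₀ := by
    show ((u * u : G) : G ⧸ N) = _
    rw [hu2]
  have hDfix : ∀ g, g ∈ D ↔ g • p₀ = p₀ ∧ g • o = o := by
    have hDo : ∀ d ∈ D, d • o = o := fun d hd => (hfix d u).mpr (by
      have := huinv d hd
      rw [hui] at this ⊢
      rw [this]
      exact hDN (inv_mem hd))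
    intro g
    refine ⟨fun hg => ⟨(hfix g 1).mpr (by simpa using hDN hg), hDo g hg⟩, fun ⟨hg1, hg2⟩ => ?_⟩
    obtain ⟨x, hx, d, hd, rfl⟩ := hNmem g (by simpa using (hfix g 1).mp hg1)
    rw [mul_smul, hDo d hd] at hg2
    rw [hkey x hx o hne hg2, one_mul]
    exact hd
  have hfaith : FaithfulSMul G (G ⧸ N) := by
    constructor
    intro a b hab
    have hker : (MulAction.toPermHom G (G ⧸ N)).ker = ⊥ := by
      rw [eq_bot_iff_forall]
      intro g hg
      have hgD : ∀ w ∈ (MulAction.toPermHom G (G ⧸ N)).ker, w ∈ D := fun w hw =>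
        (hDfix w).mpr ⟨Equiv.congr_fun (MonoidHom.mem_ker.mp hw) p₀,
          Equiv.congr_fun (MonoidHom.mem_ker.mp hw) o⟩
      obtain ⟨y, hy, hy1⟩ : ∃ y ∈ Q, y ≠ 1 := by
        by_contra hno
        push Not at hno
        rw [(eq_bot_iff_forall Q).mpr hno, card_bot] at hQD
        omega
      have h1 : y * (g * y⁻¹ * g⁻¹) = 1 := hdj _
        (mul_mem hy (hconjQ _ (hDN (hgD g hg)) _ (inv_mem hy))) (by
          rw [show y * (g * y⁻¹ * g⁻¹) = y * g * y⁻¹ * g⁻¹ by group]
          exact mul_mem (hgD _ ((MonoidHom.normal_ker _).conj_mem g hg y)) (inv_mem (hgD g hg)))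
      refine hdj g ?_ (hgD g hg)
      rw [← hC y hy hy1, mem_centralizer_singleton_iff]
      calc g * y = (y * (g * y⁻¹ * g⁻¹)) * g * y := by rw [h1, one_mul]
        _ = y * g := by group
    exact (MonoidHom.ker_eq_bot_iff _).mp hker (Equiv.ext hab)
  obtain ⟨F, hFf, hFt, hFo, hFe⟩ := BSW.Line.LineHyp.equiv_psl (p₀ := p₀) (o := o) (U := Q) (D := D) (u := u)
    { faith := hfaith
      U_fix := hQfix
      U_comm := hQcomm
      reg := hreg
      ne := hne
      D_fix := hDfix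
      D_comm := fun x hx y hy => congrArg Subtype.val (hDc.is_comm.comm ⟨x, hx⟩ ⟨y, hy⟩)
      D_norm := fun d hd x hx => hconjQ d (hDN hd) x hx
      D_free := fun d hd x hx hdx => by
        rcases eq_or_ne x 1 with h1 | h1
        · exact Or.inr h1
        · refine Or.inl (hdj d ?_ hd)
          rw [← hC x hx h1, mem_centralizer_singleton_iff]
          exact mul_inv_eq_iff_eq_mul.mp hdx
      u_p := by show ((u * 1 : G) : G ⧸ N) = _; rw [mul_one]
      u_o := huo
      u_sq := hu2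
      u_inv := huinv
      odd := ⟨Nat.card D, hQD.symm⟩
      card_D := hQD
      two_le := htwo
      card_G := hG }
  obtain ⟨e⟩ := hFe
  exact ⟨F, hFf, hFt, card_eq_of_equiv e hq hcard hFo, ⟨e⟩⟩


end Cfsg.Agent.OrderSpec
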